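import Cfsg.Agent.Lib.Helper43.PO.Class
import Cfsg.Agent.Lib.Helper14.StdMinus

set_option autoImplicit false
set_option linter.unusedSectionVars false

/-!
Uniqueness of the elliptic form over a finite field.
-/

namespace Cfsg.Agent.Lib.Helper43.PO

open Matrix QuadraticMap Cfsg.Agent.Lib.Helper44

variable {K : Type*} [Field K]

/-- Artin-Schreier. -/
theorem exists_as [Finite K] (h2 : (2 : K) = 0) {ζ ζ' : K} (h : ∀ t : K, t ^ 2 + t + ζ ≠ 0)
    (h' : ∀ t : K, t ^ 2 + t + ζ' ≠ 0) : ∃ α : K, α ^ 2 + α + ζ' = ζ := by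
  let ℘ : K →+ K := AddMonoidHom.mk' (fun x => x ^ 2 + x) (by
    intro a b
    show (a + b) ^ 2 + (a + b) = a ^ 2 + a + (b ^ 2 + b)
    linear_combination (a * b) * h2)
  have hneg : ∀ x : K, -x = x := by
    intro x
    linear_combination (-x) * h2
  have hker : Nat.card ℘.ker = 2 := by
    rw [Nat.card_eq_two_iff]
    refine ⟨⟨0, by rw [AddMonoidHom.mem_ker]; simp⟩, ⟨1, ?_⟩, ?_, ?_⟩
    · rw [AddMonoidHom.mem_ker]
      show (1 : K) ^ 2 + 1 = 0
      linear_combination h2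
    · intro h
      exact zero_ne_one (congrArg Subtype.val h)
    · rw [Set.eq_univ_iff_forall]
      rintro ⟨x, hx⟩
      rw [AddMonoidHom.mem_ker] at hx
      have hx' : x * (x + 1) = 0 := by
        have : x ^ 2 + x = 0 := hx
        linear_combination this
      rcases mul_eq_zero.1 hx' with h0 | h0
      · left; exact Subtype.ext h0
      · right
        apply Subtype.ext
        show x = 1
        have := hneg 1
        linear_combination h0 + this
  have hidx : ℘.range.index = 2 := by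
    rw [AddSubgroup.index_range, hker]
  have h1 : ζ ∉ ℘.range := by
    rintro ⟨t, ht⟩
    apply h t
    have : t ^ 2 + t = ζ := ht
    rw [this]
    linear_combination ζ * h2
  have h1' : ζ' ∉ ℘.range := by
    rintro ⟨t, ht⟩
    apply h' t
    have : t ^ 2 + t = ζ' := ht
    rw [this]
    linear_combination ζ' * h2
  have h3 : ζ + ζ' ∈ ℘.range := (AddSubgroup.add_mem_iff_of_index_two hidx).2 (by tauto)
  obtain ⟨α, hα⟩ := h3
  refine ⟨α, ?_⟩
  have : α ^ 2 + α = ζ + ζ' := hα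
  rw [this]
  linear_combination ζ' * h2

theorem exists_alpha [Fintype K] {ζ ζ' : K} (h : ∀ t : K, t ^ 2 + t + ζ ≠ 0)
    (h' : ∀ t : K, t ^ 2 + t + ζ' ≠ 0) :
    ∃ α β : K, β ≠ 0 ∧ 2 * α + β = 1 ∧ α ^ 2 + α * β + ζ' * β ^ 2 = ζ := by
  by_cases h2 : (2 : K) = 0
  · obtain ⟨α, hα⟩ := exists_as h2 h h'
    exact ⟨α, 1, one_ne_zero, by rw [h2]; ring, by linear_combination hα⟩
  · have hns : ∀ z : K, (∀ t : K, t ^ 2 + t + z ≠ 0) → ¬ IsSquare (1 - 4 * z) := by
      rintro z hz ⟨s, hs⟩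
      apply hz ((-1 + s) / 2)
      field_simp
      linear_combination -hs
    obtain ⟨e, he⟩ := Cfsg.Agent.Lib.Helper14.isSquare_mul_of_not (F := K) (hns ζ h) (hns ζ' h')
    have hd' : 1 - 4 * ζ' ≠ 0 := by
      intro h0
      exact hns ζ' h' (by rw [h0]; exact IsSquare.zero)
    have hd : 1 - 4 * ζ ≠ 0 := by
      intro h0
      exact hns ζ h (by rw [h0]; exact IsSquare.zero)
    have he0 : e ≠ 0 := by
      rintro rfl
      rw [mul_zero] at he
      rcases mul_eq_zero.1 he with h0 | h0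
      · exact hd h0
      · exact hd' h0
    refine ⟨(1 - e / (1 - 4 * ζ')) / 2, e / (1 - 4 * ζ'), div_ne_zero he0 hd', ?_, ?_⟩
    · field_simp
      ring
    · field_simp
      linear_combination (1 - 4 * ζ') * he

/-- change of the parameter of the elliptic form. -/
theorem ell_iso [Fintype K] {ζ ζ' : K} (h : ∀ t : K, t ^ 2 + t + ζ ≠ 0)
    (h' : ∀ t : K, t ^ 2 + t + ζ' ≠ 0) (n : ℕ) :
    IsoM (minusQF n K 1 ζ') (minusQF n K 1 ζ) := by
  obtain ⟨α, β, hβ, h1, h2⟩ := exists_alpha h h'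
  have hB : !![1, α; 0, β] * !![1, -α / β; 0, 1 / β] = (1 : Matrix (Fin 2) (Fin 2) K) := by
    ext i j
    fin_cases i <;> fin_cases j
    · simp [Matrix.mul_apply, Fin.sum_univ_two]
    · simp [Matrix.mul_apply, Fin.sum_univ_two]
      field_simp
      ring
    · simp [Matrix.mul_apply, Fin.sum_univ_two]
    · simp [Matrix.mul_apply, Fin.sum_univ_two, hβ]
  have hB' : !![1, -α / β; 0, 1 / β] * !![1, α; 0, β] = (1 : Matrix (Fin 2) (Fin 2) K) :=
    mul_eq_one_comm.1 hB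
  refine ⟨Matrix.fromBlocks 1 0 0 !![1, α; 0, β], Matrix.fromBlocks 1 0 0 !![1, -α / β; 0, 1 / β],
    ?_, ?_, ?_⟩
  · rw [Matrix.fromBlocks_multiply, hB]
    simp
  · rw [Matrix.fromBlocks_multiply, hB']
    simp
  · intro w
    have e1 : ∀ x, (Matrix.fromBlocks (1 : Matrix (Fin n ⊕ Fin n) (Fin n ⊕ Fin n) K) 0 0
        !![1, α; 0, β] *ᵥ w) (Sum.inl x) = w (Sum.inl x) := by
      intro x
      rw [Matrix.fromBlocks_mulVec]
      simp
    have e2 : (Matrix.fromBlocks (1 : Matrix (Fin n ⊕ Fin n) (Fin n ⊕ Fin n) K) 0 0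
        !![1, α; 0, β] *ᵥ w) (Sum.inr 0) = w (Sum.inr 0) + α * w (Sum.inr 1) := by
      rw [Matrix.fromBlocks_mulVec]
      simp [dotProduct, Fin.sum_univ_two]
    have e3 : (Matrix.fromBlocks (1 : Matrix (Fin n ⊕ Fin n) (Fin n ⊕ Fin n) K) 0 0
        !![1, α; 0, β] *ᵥ w) (Sum.inr 1) = β * w (Sum.inr 1) := by
      rw [Matrix.fromBlocks_mulVec]
      simp [dotProduct, Fin.sum_univ_two]
    rw [minusQF_apply, minusQF_apply]
    simp only [e1, e2, e3]
    linear_combination (w (Sum.inr 0) * w (Sum.inr 1)) * h1 + (w (Sum.inr 1)) ^ 2 * h2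

variable {ι : Type} [Fintype ι] [DecidableEq ι]

/-- two non-hyperbolic forms are isometric. -/
theorem class_two [Fintype K] {n : ℕ} (hι : Fintype.card ι = 2 * (n + 1))
    (P₁ P₂ : QuadraticForm K (ι → K)) (h1 : (polarBilin P₁).Nondegenerate)
    (h2 : (polarBilin P₂).Nondegenerate) (n1 : ¬ IsoM P₁ (plusQF (n + 1) K))
    (n2 : ¬ IsoM P₂ (plusQF (n + 1) K)) : IsoM P₁ P₂ := by
  rcases dich P₁ h1 hι with h | ⟨ζ₁, hζ₁, e1⟩
  · exact absurd h n1
  rcases dich P₂ h2 hι with h | ⟨ζ₂, hζ₂, e2⟩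
  · exact absurd h n2
  exact (e1.trans (ell_iso hζ₂ hζ₁ n)).trans e2.symm

theorem minus_card' (m : ℕ) : Fintype.card ((Fin m ⊕ Fin m) ⊕ Fin 2) = 2 * (m + 1) := by
  simp only [Fintype.card_sum, Fintype.card_fin]; omega

theorem minus_unique [Fintype K] {a b a' b' : K}
    (hab : ∀ z₁ z₂ : K, z₁ ^ 2 + a * z₁ * z₂ + b * z₂ ^ 2 = 0 → z₁ = 0 ∧ z₂ = 0)
    (hab' : ∀ z₁ z₂ : K, z₁ ^ 2 + a' * z₁ * z₂ + b' * z₂ ^ 2 = 0 → z₁ = 0 ∧ z₂ = 0) (n : ℕ) :
    IsoM (minusQF n K a b) (minusQF n K a' b') :=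
  class_two (minus_card' n) _ _ (minusQF_nondeg n K hab) (minusQF_nondeg n K hab')
    (not_plus_minus hab) (not_plus_minus hab')

end Cfsg.Agent.Lib.Helper43.PO
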