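import Cfsg.Agent.Lib.Helper43.PO.Desc
import Cfsg.Agent.Lib.Helper44.MinusGeom
import Cfsg.Agent.S2616

set_option autoImplicit false
set_option linter.unusedSectionVars false

/-!
Classification of nondegenerate quadratic forms of even dimension over finite fields, matrix form.
-/

namespace Cfsg.Agent.Lib.Helper43.PO

open Matrix QuadraticMap Cfsg.Agent.Lib.Helper44

universe u

section iso

variable {K : Type*} [Field K] {ι κ τ : Type} [Fintype ι] [Fintype κ] [Fintype τ]
  [DecidableEq ι] [DecidableEq κ] [DecidableEq τ]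

/-- isometry between forms on coordinate spaces. -/
def IsoM (P : QuadraticForm K (ι → K)) (R : QuadraticForm K (κ → K)) : Prop :=
  ∃ (M : Matrix ι κ K) (N : Matrix κ ι K), M * N = 1 ∧ N * M = 1 ∧ ∀ w, P (M *ᵥ w) = R w

lemma IsoM.refl (P : QuadraticForm K (ι → K)) : IsoM P P :=
  ⟨1, 1, by simp, by simp, fun w => by simp⟩

lemma IsoM.symm {P : QuadraticForm K (ι → K)} {R : QuadraticForm K (κ → K)} (h : IsoM P R) :
    IsoM R P := by
  obtain ⟨M, N, h1, h2, h3⟩ := h
  refine ⟨N, M, h2, h1, fun w => ?_⟩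
  rw [← h3, mulVec_mulVec, h1, one_mulVec]

lemma IsoM.trans {P : QuadraticForm K (ι → K)} {R : QuadraticForm K (κ → K)}
    {T : QuadraticForm K (τ → K)} (h : IsoM P R) (h' : IsoM R T) : IsoM P T := by
  obtain ⟨M, N, h1, h2, h3⟩ := h
  obtain ⟨M', N', h1', h2', h3'⟩ := h'
  refine ⟨M * M', N' * N, ?_, ?_, fun w => ?_⟩
  · rw [Matrix.mul_assoc, ← Matrix.mul_assoc M', h1', Matrix.one_mul, h1]
  · rw [Matrix.mul_assoc, ← Matrix.mul_assoc N, h2, Matrix.one_mul, h2']
  · rw [← mulVec_mulVec, h3, h3']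

lemma IsoM.exists_GL {P R : QuadraticForm K (ι → K)} (h : IsoM P R) :
    ∃ k : GL ι K, ∀ w, P (k.1 *ᵥ w) = R w := by
  obtain ⟨M, N, h1, h2, h3⟩ := h
  exact ⟨⟨M, N, h1, h2⟩, h3⟩

lemma isoM_of_GL {P R : QuadraticForm K (ι → K)} (k : GL ι K) (h : ∀ w, P (k.1 *ᵥ w) = R w) :
    IsoM P R :=
  ⟨k.1, (k⁻¹ : GL ι K).1, by rw [← Units.val_mul, mul_inv_cancel, Units.val_one],
    by rw [← Units.val_mul, inv_mul_cancel, Units.val_one], h⟩

theorem isoM_of_basis (P : QuadraticForm K (ι → K)) (R : QuadraticForm K (κ → K))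
    (b : Module.Basis κ K (ι → K)) (h1 : ∀ i, P (b i) = R (Pi.single i 1))
    (h2 : ∀ i j, polar P (b i) (b j) = polar R (Pi.single i 1) (Pi.single j 1)) : IsoM P R := by
  have hcol : ∀ j, ((Pi.basisFun K ι).toMatrix b) *ᵥ (Pi.single j 1) = b j := by
    intro j
    rw [Matrix.mulVec_single_one]
    funext i
    simp [Module.Basis.toMatrix_apply]
  refine ⟨(Pi.basisFun K ι).toMatrix b, b.toMatrix (Pi.basisFun K ι),
    Module.Basis.toMatrix_mul_toMatrix_flip _ _, Module.Basis.toMatrix_mul_toMatrix_flip _ _, ?_⟩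
  have e : P.comp (Matrix.mulVecLin ((Pi.basisFun K ι).toMatrix b)) = R := by
    apply quad_ext
    · intro i
      rw [QuadraticMap.comp_apply, Matrix.mulVecLin_apply, hcol, h1]
    · intro i j
      rw [← h2, ← hcol i, ← hcol j]
      unfold QuadraticMap.polar
      simp only [QuadraticMap.comp_apply, Matrix.mulVecLin_apply, mulVec_add]
  intro w
  exact congrArg (fun q : QuadraticForm K (κ → K) => q w) e

end iso

section basechange

variable {F : Type u} [Field F] {F₀ : Type*} [Field F₀] {i₀ : F₀ →+* F}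
  {ι κ : Type} [Fintype ι] [Fintype κ] [DecidableEq ι] [DecidableEq κ]

lemma up_mulVec' (M : Matrix ι κ F₀) (w : κ → F₀) : up i₀ (M *ᵥ w) = (M.map i₀) *ᵥ up i₀ w := by
  funext i
  exact RingHom.map_mulVec i₀ M w i

theorem IsoM.map {Q : QuadraticForm F (ι → F)} {P : QuadraticForm F₀ (ι → F₀)}
    {R' : QuadraticForm F (κ → F)} {R : QuadraticForm F₀ (κ → F₀)} (hP : IsRat i₀ Q P)
    (hR : IsRat i₀ R' R) (h : IsoM P R) : IsoM Q R' := by
  obtain ⟨M, N, h1, h2, h3⟩ := h
  refine ⟨M.map i₀, N.map i₀, ?_, ?_, ?_⟩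
  · rw [← Matrix.map_mul, h1]; simp
  · rw [← Matrix.map_mul, h2]; simp
  · have e : Q.comp (Matrix.mulVecLin (M.map i₀)) = R' := by
      apply quad_ext_rat i₀
      intro w
      show Q ((M.map i₀) *ᵥ up i₀ w) = R' (up i₀ w)
      rw [← up_mulVec', hP, h3, hR]
    intro w
    exact congrArg (fun q : QuadraticForm F (κ → F) => q w) e

end basechange

section dich

variable {K : Type*} [Field K] {ι : Type} [Fintype ι] [DecidableEq ι]

theorem dich [Finite K] (P : QuadraticForm K (ι → K)) (hP : (polarBilin P).Nondegenerate) {n : ℕ}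
    (hι : Fintype.card ι = 2 * (n + 1)) :
    IsoM P (plusQF (n + 1) K) ∨ ∃ ζ : K, (∀ t : K, t ^ 2 + t + ζ ≠ 0) ∧ IsoM P (minusQF n K 1 ζ) := by
  rcases Cfsg.Agent.S2616.result (m := n + 1) (by omega) (by simpa using hι) P hP with
    ⟨b, hb1, hb2, hb3⟩ | ⟨b, ζ, hζ, hb1, hb2, hb3, hb4, hb5, hb6, hb7⟩
  · left
    apply isoM_of_basis P _ b
    · intro i
      rw [plusQF_apply]
      rcases i with i | i
      · simp [(hb1 i).1]
      · simp [(hb1 i).2]
    · intro i j
      rcases i with i | i
      · rw [plusQF_polar_single_inl]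
        rcases j with j | j
        · simp [(hb3 i j).1]
        · rw [hb2]
          by_cases h : i = j
          · subst h; simp
          · simp [h]
      · rw [plusQF_polar_single_inr]
        rcases j with j | j
        · rw [polar_comm, hb2]
          by_cases h : j = i
          · subst h; simp
          · simp [h, Ne.symm h]
        · simp [(hb3 i j).2]
  · right
    simp only [Nat.add_one_sub_one] at b hb1 hb2 hb3 hb4 hb5 hb6 hb7
    refine ⟨ζ, hζ, ?_⟩
    apply isoM_of_basis P _ b
    · intro i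
      rw [minusQF_apply]
      rcases i with (i | i) | i
      · simp [(hb1 i).1]
      · simp [(hb1 i).2]
      · fin_cases i
        · simp [hb5]
        · simp [hb7]
    · intro i j
      rcases i with (i | i) | i
      · rw [minusQF_polar_single_inl]
        rcases j with (j | j) | j
        · simp [(hb3 i j).1]
        · rw [hb2]
          by_cases h : i = j
          · subst h; simp
          · simp [h]
        · simp [(hb4 i j).1]
      · rw [minusQF_polar_single_inr]
        rcases j with (j | j) | j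
        · rw [polar_comm, hb2]
          by_cases h : j = i
          · subst h; simp
          · simp [h, Ne.symm h]
        · simp [(hb3 i j).2]
        · simp [(hb4 i j).2]
      · rcases j with (j | j) | j
        · rw [polar_comm, (hb4 j i).1, polar_comm, minusQF_polar_single_inl]
          simp
        · rw [polar_comm, (hb4 j i).2, polar_comm, minusQF_polar_single_inr]
          simp
        · fin_cases i <;> fin_cases j
          · simp only [Fin.zero_eta]
            rw [minusQF_polar_single_zero, polar_self, hb5]; simp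
          · simp only [Fin.zero_eta, Fin.mk_one]
            rw [minusQF_polar_single_zero, hb6]; simp
          · simp only [Fin.zero_eta, Fin.mk_one]
            rw [minusQF_polar_single_one, polar_comm, hb6]; simp
          · simp only [Fin.mk_one]
            rw [minusQF_polar_single_one, polar_self, hb7]; simp

lemma aniso_of_irr {ζ : K} (h : ∀ t : K, t ^ 2 + t + ζ ≠ 0) :
    ∀ z₁ z₂ : K, z₁ ^ 2 + 1 * z₁ * z₂ + ζ * z₂ ^ 2 = 0 → z₁ = 0 ∧ z₂ = 0 := by
  intro z₁ z₂ hz
  by_cases h2 : z₂ = 0
  · subst h2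
    refine ⟨?_, rfl⟩
    have : z₁ ^ 2 = 0 := by linear_combination hz
    exact pow_eq_zero_iff (two_ne_zero) |>.1 this
  · exfalso
    apply h (z₁ / z₂)
    field_simp
    linear_combination hz

theorem not_plus_minus [Finite K] {n : ℕ} {a b : K}
    (hab : ∀ z₁ z₂ : K, z₁ ^ 2 + a * z₁ * z₂ + b * z₂ ^ 2 = 0 → z₁ = 0 ∧ z₂ = 0)
    (h : IsoM (minusQF n K a b) (plusQF (n + 1) K)) : False := by
  obtain ⟨M, N, h1, h2, h3⟩ := h
  have hinj : Function.Injective (Matrix.mulVecLin M) := by
    intro x y hxy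
    have := congrArg (fun z => N *ᵥ z) hxy
    simpa [mulVec_mulVec, h2] using this
  have h4 := minus_finrank_sing_le hab ((U0 (n + 1) K).map (Matrix.mulVecLin M)) (by
    rintro _ ⟨u, hu, rfl⟩
    rw [Matrix.mulVecLin_apply, h3]
    exact U0_sing u hu)
  rw [← LinearEquiv.finrank_eq (Submodule.equivMapOfInjective _ hinj (U0 (n + 1) K)),
    finrank_U0] at h4
  omega

end dich

end Cfsg.Agent.Lib.Helper43.PO
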