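import Cfsg.Agent.Lib.Helper43.PO.Lang
import Cfsg.Agent.Lib.Helper43.GLEquiv

set_option autoImplicit false
set_option linter.unusedSectionVars false

/-!
Descent of `σ`-invariant quadratic forms to the fixed field.
-/

namespace Cfsg.Agent.Lib.Helper43.PO

open Matrix QuadraticMap Cfsg.Agent.Lib.Helper13.OOut Cfsg.Agent.Lib.Helper43.PA
  Cfsg.Agent.Lib.Helper44

universe u

variable {F : Type u} [Field F] {ι : Type} [Fintype ι] [DecidableEq ι]
variable {F₀ : Type*} [Field F₀] (i₀ : F₀ →+* F)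

/-- extension of scalars for vectors. -/
def up (w : ι → F₀) : ι → F := fun i => i₀ (w i)

lemma up_add (w w' : ι → F₀) : up i₀ (w + w') = up i₀ w + up i₀ w' := by
  funext i; simp [up]

lemma up_smul (a : F₀) (w : ι → F₀) : up i₀ (a • w) = i₀ a • up i₀ w := by
  funext i; simp [up]

lemma up_injective : Function.Injective (up i₀ : (ι → F₀) → ι → F) := by
  intro a b h
  funext i
  exact i₀.injective (congrFun h i)

lemma up_single (j : ι) : up i₀ (Pi.single j 1 : ι → F₀) = Pi.single j 1 := by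
  funext i
  by_cases hi : i = j
  · subst hi; simp [up]
  · simp [up, Pi.single_eq_of_ne hi]

lemma up_mulVec (M : Matrix ι ι F₀) (w : ι → F₀) : up i₀ (M *ᵥ w) = (M.map i₀) *ᵥ up i₀ w := by
  funext i
  exact RingHom.map_mulVec i₀ M w i

/-- `Q₀` is a rational structure for `Q`. -/
def IsRat (Q : (ι → F) → F) (Q₀ : (ι → F₀) → F₀) : Prop := ∀ w, Q (up i₀ w) = i₀ (Q₀ w)

variable {i₀}

lemma IsRat.polar {Q : (ι → F) → F} {Q₀ : (ι → F₀) → F₀} (h : IsRat i₀ Q Q₀) (x y : ι → F₀) :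
    polar Q (up i₀ x) (up i₀ y) = i₀ (polar Q₀ x y) := by
  unfold QuadraticMap.polar
  rw [← up_add, h, h, h, map_sub, map_sub]

theorem exists_desc {σ : F ≃+* F} (hι : ∀ x, σ x = x ↔ ∃ y, i₀ y = x)
    (Q : QuadraticForm F (ι → F)) (hinv : Inv Q σ) :
    ∃ Q₀ : QuadraticForm F₀ (ι → F₀), IsRat i₀ Q Q₀ := by
  have hex : ∀ w : ι → F₀, ∃ y, i₀ y = Q (up i₀ w) := by
    intro w
    rw [← hι, ← hinv]
    congr 1
    funext i
    exact (hι _).2 ⟨w i, rfl⟩
  choose q hq using hex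
  have hr : IsRat i₀ Q q := fun w => (hq w).symm
  refine ⟨QuadraticMap.ofPolar q ?_ ?_ ?_, hr⟩
  · intro a x
    apply i₀.injective
    rw [hq, up_smul, QuadraticMap.map_smul, smul_eq_mul, smul_eq_mul, map_mul, map_mul, hq]
  · intro x x' y
    apply i₀.injective
    rw [map_add, ← hr.polar, ← hr.polar, ← hr.polar, up_add, polar_add_left]
  · intro a x y
    apply i₀.injective
    rw [smul_eq_mul, map_mul, ← hr.polar, ← hr.polar, up_smul, polar_smul_left, smul_eq_mul]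

theorem IsRat.nondeg {Q : QuadraticForm F (ι → F)} {Q₀ : QuadraticForm F₀ (ι → F₀)}
    (h : IsRat i₀ Q Q₀) (hQ : (polarBilin Q).Nondegenerate) : (polarBilin Q₀).Nondegenerate := by
  apply nondeg_of_sep
  intro x hx
  apply up_injective i₀
  have h0 : up i₀ (0 : ι → F₀) = 0 := by funext i; simp [up]
  rw [h0]
  apply hQ.1
  have hz : polarBilin Q (up i₀ x) = 0 := by
    apply (Pi.basisFun F ι).ext
    intro j
    show QuadraticMap.polar Q (up i₀ x) (Pi.basisFun F ι j) = 0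
    rw [Pi.basisFun_apply, ← up_single i₀, IsRat.polar h, hx, map_zero]
  intro y
  rw [hz]
  rfl

theorem nondeg_of_sim {Q Q' : QuadraticForm F (ι → F)} (hQ : (polarBilin Q).Nondegenerate)
    (h₀ : GL ι F) (ν : Fˣ) (h : ∀ v, Q' v = ν * Q (h₀.1 *ᵥ v)) : (polarBilin Q').Nondegenerate := by
  apply nondeg_of_sep
  have hp : ∀ x y, polar Q' x y = ν * polar Q (h₀.1 *ᵥ x) (h₀.1 *ᵥ y) := by
    intro x y
    unfold QuadraticMap.polar
    rw [h, h, h, mulVec_add]
    ring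
  intro x hx
  have h1 : h₀.1 *ᵥ x = 0 := by
    apply hQ.1
    intro y
    have := hx ((h₀⁻¹ : GL ι F).1 *ᵥ y)
    rw [hp, mulVec_mulVec, ← Units.val_mul, mul_inv_cancel, Units.val_one, one_mulVec] at this
    exact (mul_eq_zero.1 this).resolve_left ν.ne_zero
  have h2 := congrArg (fun z => (h₀⁻¹ : GL ι F).1 *ᵥ z) h1
  simpa [mulVec_mulVec, ← Units.val_mul] using h2

lemma RatForm.nondeg {Q Q' : QuadraticForm F (ι → F)} {σ : F ≃+* F} {g : GL ι F}
    (h : RatForm Q σ g Q') (hQ : (polarBilin Q).Nondegenerate) : (polarBilin Q').Nondegenerate := by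
  obtain ⟨h₀, ν, -, h1⟩ := h.ex
  exact nondeg_of_sim hQ h₀ ν h1

theorem simRat_of_rat {σ : F ≃+* F} (hι : ∀ x, σ x = x ↔ ∃ y, i₀ y = x)
    {Q₁ Q₂ : QuadraticForm F (ι → F)} {P₁ P₂ : QuadraticForm F₀ (ι → F₀)}
    (h1 : IsRat i₀ Q₁ P₁) (h2 : IsRat i₀ Q₂ P₂) (k₀ : GL ι F₀) (l₀ : F₀ˣ)
    (h : ∀ w, P₁ (k₀.1 *ᵥ w) = l₀ * P₂ w) : SimRat σ Q₁ Q₂ := by
  refine ⟨Matrix.GeneralLinearGroup.map i₀ k₀, Units.map i₀.toMonoidHom l₀,
    (exists_mapG_eq i₀ σ hι _).2 ⟨k₀, rfl⟩, ?_⟩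
  have e : Q₁.comp (Matrix.mulVecLin (Matrix.GeneralLinearGroup.map i₀ k₀).1) =
      ((Units.map i₀.toMonoidHom l₀ : Fˣ) : F) • Q₂ := by
    apply quad_ext_rat i₀
    intro w
    show Q₁ ((k₀.1.map i₀) *ᵥ up i₀ w) = i₀ l₀ * Q₂ (up i₀ w)
    rw [← up_mulVec, h1, h, h2, map_mul]
  intro v
  exact congrArg (fun q : QuadraticForm F (ι → F) => q v) e

/-- transitivity and symmetry of similarity over the fixed field. -/
lemma SimRat.symm {σ : F ≃+* F} {Q₁ Q₂ : QuadraticForm F (ι → F)} (h : SimRat σ Q₁ Q₂) :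
    SimRat σ Q₂ Q₁ := by
  obtain ⟨k, l, hk, h⟩ := h
  refine ⟨k⁻¹, l⁻¹, by rw [map_inv, hk], fun v => ?_⟩
  have := h ((k⁻¹ : GL ι F).1 *ᵥ v)
  rw [mulVec_mulVec, ← Units.val_mul, mul_inv_cancel, Units.val_one, one_mulVec] at this
  rw [this, ← mul_assoc, ← Units.val_mul, inv_mul_cancel, Units.val_one, one_mul]

lemma SimRat.trans {σ : F ≃+* F} {Q₁ Q₂ Q₃ : QuadraticForm F (ι → F)} (h : SimRat σ Q₁ Q₂)
    (h' : SimRat σ Q₂ Q₃) : SimRat σ Q₁ Q₃ := by
  obtain ⟨k, l, hk, h⟩ := h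
  obtain ⟨k', l', hk', h'⟩ := h'
  refine ⟨k * k', l * l', by rw [map_mul, hk, hk'], fun v => ?_⟩
  rw [Units.val_mul, ← mulVec_mulVec, h, h', Units.val_mul, mul_assoc]

/-- a basis gives an element of `GL`. -/
theorem exists_GL_of_basis {K : Type*} [Field K] (b : Module.Basis ι K (ι → K)) :
    ∃ k : GL ι K, ∀ j, k.1 *ᵥ (Pi.single j 1) = b j := by
  refine ⟨glEquiv.symm b.equivFun.symm, fun j => ?_⟩
  rw [glEquiv_symm_mulVec]
  apply (LinearEquiv.symm_apply_eq _).2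
  funext i
  rw [b.equivFun_self, Pi.single_apply]
  by_cases h : i = j
  · subst h; simp
  · rw [if_neg h, if_neg (Ne.symm h)]

/-- comparing a form in a basis with a standard form. -/
theorem eq_of_basis {K : Type*} [Field K] (P S : QuadraticForm K (ι → K)) (k : GL ι K) (l : K)
    (h1 : ∀ i, P (k.1 *ᵥ Pi.single i 1) = l * S (Pi.single i 1))
    (h2 : ∀ i j, polar P (k.1 *ᵥ Pi.single i 1) (k.1 *ᵥ Pi.single j 1) =
      l * polar S (Pi.single i 1) (Pi.single j 1)) (w : ι → K) : P (k.1 *ᵥ w) = l * S w := by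
  have e : P.comp (Matrix.mulVecLin k.1) = l • S := by
    apply quad_ext
    · intro i
      exact h1 i
    · intro i j
      have e1 : polar (⇑(l • S)) (Pi.single i 1) (Pi.single j 1) =
          l * polar S (Pi.single i 1) (Pi.single j 1) := by
        unfold QuadraticMap.polar
        simp only [_root_.smul_apply, smul_eq_mul]
        ring
      rw [e1, ← h2]
      unfold QuadraticMap.polar
      simp only [QuadraticMap.comp_apply, Matrix.mulVecLin_apply, mulVec_add]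
  exact congrArg (fun q : QuadraticForm K (ι → K) => q w) e

end Cfsg.Agent.Lib.Helper43.PO
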