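import Cfsg.Agent.Lib.Helper13.OOutC
import Cfsg.Agent.Lib.Helper43.PA.FixField

set_option autoImplicit false
set_option linter.unusedSectionVars false

/-!
Generic tools for field automorphisms of orthogonal groups: Hilbert 90 for `GL ι F`, scalars, norms.
-/

namespace Cfsg.Agent.Lib.Helper43.PO

open Matrix Cfsg.Agent.Lib.Helper13.OOut Cfsg.Agent.Lib.Helper43.PA

universe u

variable {F : Type u} [Field F] {ι : Type} [Fintype ι] [DecidableEq ι]

/-- partial norms `g σ(g) ⋯ σ^{k-1}(g)`. -/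
noncomputable def nrmG (σ : F ≃+* F) (g : GL ι F) : ℕ → GL ι F
  | 0 => 1
  | k + 1 => g * fieldGL σ (nrmG σ g k)

lemma nrmG_zero (σ : F ≃+* F) (g : GL ι F) : nrmG σ g 0 = 1 := rfl
lemma nrmG_succ (σ : F ≃+* F) (g : GL ι F) (k : ℕ) :
    nrmG σ g (k + 1) = g * fieldGL σ (nrmG σ g k) := rfl

lemma fieldGL_mul' (σ τ : F ≃+* F) (g : GL ι F) :
    fieldGL (σ * τ) g = fieldGL σ (fieldGL τ g) := by
  rw [map_mul]; rfl

lemma fieldGL_one' (g : GL ι F) : fieldGL (1 : F ≃+* F) g = g := by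
  rw [map_one]; rfl

lemma nrmG_succ' (σ : F ≃+* F) (g : GL ι F) (k : ℕ) :
    nrmG σ g (k + 1) = nrmG σ g k * fieldGL (σ ^ k) g := by
  induction k with
  | zero => simp [nrmG_succ, nrmG_zero]
  | succ k ih =>
    rw [nrmG_succ σ g (k + 1), ih, map_mul, ← mul_assoc, ← nrmG_succ, ← fieldGL_mul', ← pow_succ', ih]

/-- the pair `(g, σ)`. -/
def pr (g : GL ι F) (σ : F ≃+* F) : SG F ι := ⟨g, σ⟩

@[simp] lemma pr_left (g : GL ι F) (σ : F ≃+* F) : (pr g σ).left = g := rfl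
@[simp] lemma pr_right (g : GL ι F) (σ : F ≃+* F) : (pr g σ).right = σ := rfl

lemma pr_mul (g h : GL ι F) (σ τ : F ≃+* F) : pr g σ * pr h τ = pr (g * fieldGL σ h) (σ * τ) := rfl

lemma pr_pow (g : GL ι F) (σ : F ≃+* F) (k : ℕ) : pr g σ ^ k = pr (nrmG σ g k) (σ ^ k) := by
  induction k with
  | zero => rfl
  | succ k ih => rw [pow_succ', ih, pr_mul, ← nrmG_succ, ← pow_succ']

lemma pr_one : pr (1 : GL ι F) (1 : F ≃+* F) = 1 := rfl

lemma pr_inv_one (h : GL ι F) : (pr h (1 : F ≃+* F))⁻¹ = pr h⁻¹ 1 := by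
  rw [inv_eq_iff_mul_eq_one, pr_mul, fieldGL_one', mul_inv_cancel, mul_one, pr_one]

lemma pr_conj (h : GL ι F) (σ : F ≃+* F) :
    pr h 1 * pr 1 σ * (pr h 1)⁻¹ = pr (h * (fieldGL σ h)⁻¹) σ := by
  rw [pr_inv_one, pr_mul, pr_mul, fieldGL_one', mul_one, one_mul, mul_one, map_inv]

/-- the Poincare series. -/
noncomputable def poinG (σ : F ≃+* F) (g : GL ι F) (k : ℕ) (c : ι → F) : ι → F :=
  ∑ i ∈ Finset.range k, (nrmG σ g i).1 *ᵥ (⇑(σ ^ i) ∘ c)

lemma comp_mulVecG (σ : F ≃+* F) (M : Matrix ι ι F) (v : ι → F) :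
    ⇑σ ∘ (M *ᵥ v) = (M.map σ) *ᵥ (⇑σ ∘ v) := by
  funext i
  exact RingHom.map_mulVec (σ : F →+* F) M v i

lemma comp_sumG (σ : F ≃+* F) {κ : Type*} (s : Finset κ) (v : κ → ι → F) :
    ⇑σ ∘ (∑ i ∈ s, v i) = ∑ i ∈ s, ⇑σ ∘ v i := by
  funext j
  simp [Finset.sum_apply]

lemma poinG_fix (σ : F ≃+* F) (g : GL ι F) (k : ℕ) (hσ : σ ^ k = 1) (hg : nrmG σ g k = 1)
    (c : ι → F) : g.1 *ᵥ (⇑σ ∘ poinG σ g k c) = poinG σ g k c := by
  have step : ∀ i, g.1 *ᵥ (⇑σ ∘ ((nrmG σ g i).1 *ᵥ (⇑(σ ^ i) ∘ c))) =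
      (nrmG σ g (i + 1)).1 *ᵥ (⇑(σ ^ (i + 1)) ∘ c) := by
    intro i
    rw [comp_mulVecG, mulVec_mulVec, nrmG_succ, Units.val_mul, fieldGL_coe, pow_succ']
    rfl
  unfold poinG
  rw [comp_sumG, mulVec_sum]
  simp only [step]
  have h1 := Finset.sum_range_succ (fun i => (nrmG σ g i).1 *ᵥ (⇑(σ ^ i) ∘ c)) k
  have h2 := Finset.sum_range_succ' (fun i => (nrmG σ g i).1 *ᵥ (⇑(σ ^ i) ∘ c)) k
  rw [h1] at h2
  have h3 : (nrmG σ g k).1 *ᵥ (⇑(σ ^ k) ∘ c) = (nrmG σ g 0).1 *ᵥ (⇑(σ ^ 0) ∘ c) := by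
    rw [hg, hσ, nrmG_zero, pow_zero]
  rw [h3] at h2
  exact (add_right_cancel h2).symm

lemma poinG_span (σ : F ≃+* F) (g : GL ι F) (k : ℕ) (hk : orderOf σ = k) (hk0 : 0 < k) :
    Submodule.span F (Set.range (poinG σ g k)) = ⊤ := by
  by_contra hne
  obtain ⟨f, hf0, hf⟩ := Submodule.exists_le_ker_of_lt_top _ (lt_top_iff_ne_top.2 hne)
  apply hf0
  apply LinearMap.pi_ext'
  intro j
  apply LinearMap.ext_ring
  have key : ∀ t : F, ∑ i ∈ Finset.range k, f ((nrmG σ g i).1 *ᵥ Pi.single j 1) * (σ ^ i) t = 0 := by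
    intro t
    have h1 : f (poinG σ g k (Pi.single j t)) = 0 :=
      hf (Submodule.subset_span ⟨_, rfl⟩)
    unfold poinG at h1
    rw [map_sum] at h1
    rw [← h1]
    apply Finset.sum_congr rfl
    intro i _
    have h2 : (⇑(σ ^ i) ∘ (Pi.single j t : ι → F)) = ((σ ^ i) t) • (Pi.single j 1 : ι → F) := by
      funext l
      by_cases hl : l = j
      · subst hl; simp
      · simp [Pi.single_eq_of_ne hl]
    rw [h2, mulVec_smul, map_smul, smul_eq_mul, mul_comm]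
  have := dedekind σ k hk _ key 0 hk0
  rw [nrmG_zero, Units.val_one, one_mulVec] at this
  simpa using this

/-- Hilbert 90 for `GL ι F`. -/
theorem hilbert90_G (σ : F ≃+* F) (g : GL ι F) (k : ℕ) (hk : orderOf σ = k) (hk0 : 0 < k)
    (hg : nrmG σ g k = 1) : ∃ h : GL ι F, g = h * (fieldGL σ h)⁻¹ := by
  have hσ : σ ^ k = 1 := hk ▸ pow_orderOf_eq_one σ
  have hspan := poinG_span σ g k hk hk0
  obtain ⟨v, hv, -, hli⟩ := Submodule.exists_fun_fin_finrank_span_eq F (Set.range (poinG σ g k))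
  have hfin : Module.finrank F (Submodule.span F (Set.range (poinG σ g k))) = Fintype.card ι := by
    rw [hspan, finrank_top]; simp
  let e : ι ≃ Fin (Module.finrank F (Submodule.span F (Set.range (poinG σ g k)))) :=
    (Fintype.equivFin ι).trans (finCongr hfin.symm)
  let w : ι → ι → F := v ∘ e
  have hwli : LinearIndependent F w := hli.comp _ e.injective
  have hw : ∀ j, g.1 *ᵥ (⇑σ ∘ w j) = w j := by
    intro j
    obtain ⟨c, hc⟩ := hv (e j)
    show g.1 *ᵥ (⇑σ ∘ v (e j)) = v (e j)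
    rw [← hc]
    exact poinG_fix σ g k hσ hg c
  let P : Matrix ι ι F := (Matrix.of w)ᵀ
  have hP : IsUnit P := by
    rw [← Matrix.linearIndependent_cols_iff_isUnit]
    exact hwli
  have hgP : g.1 * P.map σ = P := by
    ext i j
    have := congrFun (hw j) i
    simpa [Matrix.mul_apply, Matrix.mulVec, dotProduct, P] using this
  refine ⟨hP.unit, ?_⟩
  rw [eq_mul_inv_iff_mul_eq]
  apply Units.ext
  rw [Units.val_mul, fieldGL_coe]
  exact hgP

/-! ### scalars -/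

/-- scalar matrices. -/
noncomputable def scG : Fˣ →* GL ι F := Units.map (Matrix.scalar ι).toMonoidHom

lemma scG_coe (u : Fˣ) : (scG u : GL ι F).1 = Matrix.scalar ι (u : F) := rfl

lemma scG_coe' (u : Fˣ) : (scG u : GL ι F).1 = (u : F) • (1 : Matrix ι ι F) := by
  rw [scG_coe, Matrix.scalar_apply, Matrix.smul_one_eq_diagonal]

lemma scG_mulVec (u : Fˣ) (v : ι → F) : (scG u : GL ι F).1 *ᵥ v = (u : F) • v := by
  rw [scG_coe', smul_mulVec, one_mulVec]

lemma scG_comm (u : Fˣ) (g : GL ι F) : scG u * g = g * scG u := by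
  apply Units.ext
  rw [Units.val_mul, Units.val_mul, scG_coe]
  exact (Matrix.scalar_commute (u : F) (fun r => mul_comm _ _) g.1)

lemma fieldGL_scG (σ : F ≃+* F) (u : Fˣ) :
    fieldGL σ (scG u : GL ι F) = scG (uM σ u) := by
  apply Units.ext
  rw [fieldGL_coe, scG_coe, scG_coe, uM_coe]
  ext i j
  by_cases h : i = j
  · subst h; simp
  · simp [Matrix.scalar_apply, Matrix.diagonal_apply_ne _ h]

lemma nrmG_scG_mul (σ : F ≃+* F) (u : Fˣ) (g : GL ι F) (k : ℕ) :
    nrmG σ (scG u * g) k = scG (nU σ u k) * nrmG σ g k := by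
  induction k with
  | zero => simp [nrmG_zero, nU_zero]
  | succ k ih =>
    rw [nrmG_succ, ih, nrmG_succ, nU_succ, map_mul, map_mul, fieldGL_scG, mul_assoc, mul_assoc,
      ← mul_assoc g, ← scG_comm _ g]
    simp only [mul_assoc]

lemma scG_injective [Nonempty ι] : Function.Injective (scG : Fˣ →* GL ι F) := by
  intro u v h
  obtain ⟨i⟩ := ‹Nonempty ι›
  have h1 := congrArg (fun g : GL ι F => g.1 i i) h
  simp only [scG_coe, Matrix.scalar_apply, Matrix.diagonal_apply_eq] at h1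
  exact Units.ext h1

lemma exists_scG_of_smul [Nonempty ι] {g : GL ι F} {μ : F} (h : g.1 = μ • (1 : Matrix ι ι F)) :
    ∃ u : Fˣ, g = scG u := by
  have hμ : μ ≠ 0 := by
    rintro rfl
    have h2 := g.isUnit
    rw [h, zero_smul] at h2
    exact not_isUnit_zero h2
  exact ⟨Units.mk0 μ hμ, Units.ext (by rw [h, scG_coe']; rfl)⟩

lemma fieldGL_pow_of_scalar (σ : F ≃+* F) {g : GL ι F} {u : Fˣ} (h : fieldGL σ g = scG u * g)
    (j : ℕ) : fieldGL (σ ^ j) g = scG (nU σ u j) * g := by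
  induction j with
  | zero => simp [nU_zero]
  | succ j ih =>
    rw [pow_succ', fieldGL_mul', ih, map_mul, fieldGL_scG, h, nU_succ, map_mul, ← mul_assoc,
      ← map_mul, ← map_mul, mul_comm]

/-! ### matrices over the fixed field -/

lemma exists_mapG_eq {F₀ : Type*} [Field F₀] (i₀ : F₀ →+* F) (σ : F ≃+* F)
    (hι : ∀ x, σ x = x ↔ ∃ y, i₀ y = x) (g : GL ι F) :
    fieldGL σ g = g ↔ ∃ g₀ : GL ι F₀, Matrix.GeneralLinearGroup.map i₀ g₀ = g := by
  constructor
  · intro h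
    have h1 : ∀ i j, ∃ y, i₀ y = g.1 i j := by
      intro i j
      rw [← hι]
      exact congrArg (fun g : GL ι F => g.1 i j) h
    have h' : fieldGL σ g⁻¹ = g⁻¹ := by rw [map_inv, h]
    have h2 : ∀ i j, ∃ y, i₀ y = (g⁻¹ : GL ι F).1 i j := by
      intro i j
      rw [← hι]
      exact congrArg (fun g : GL ι F => g.1 i j) h'
    choose M hM using h1
    choose M' hM' using h2
    have e1 : (Matrix.of M).map i₀ = g.1 := by ext i j; exact hM i j
    have e2 : (Matrix.of M').map i₀ = (g⁻¹ : GL ι F).1 := by ext i j; exact hM' i j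
    have hinj : Function.Injective (fun A : Matrix ι ι F₀ => A.map i₀) :=
      Matrix.map_injective i₀.injective
    refine ⟨⟨Matrix.of M, Matrix.of M', ?_, ?_⟩, Units.ext e1⟩
    · apply hinj
      show (Matrix.of M * Matrix.of M').map i₀ = (1 : Matrix ι ι F₀).map i₀
      rw [Matrix.map_mul, e1, e2, ← Units.val_mul, mul_inv_cancel]
      simp
    · apply hinj
      show (Matrix.of M' * Matrix.of M).map i₀ = (1 : Matrix ι ι F₀).map i₀
      rw [Matrix.map_mul, e1, e2, ← Units.val_mul, inv_mul_cancel]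
      simp
  · rintro ⟨g₀, rfl⟩
    apply Units.ext
    ext i j
    exact (hι _).2 ⟨g₀.1 i j, rfl⟩

/-! ### extensionality for quadratic forms -/

theorem quad_ext {K : Type*} [Field K] (Q₁ Q₂ : QuadraticForm K (ι → K))
    (h1 : ∀ i, Q₁ (Pi.single i 1) = Q₂ (Pi.single i 1))
    (h2 : ∀ i j, QuadraticMap.polar Q₁ (Pi.single i 1) (Pi.single j 1) =
      QuadraticMap.polar Q₂ (Pi.single i 1) (Pi.single j 1)) : Q₁ = Q₂ := by
  have hB : QuadraticMap.polarBilin Q₁ = QuadraticMap.polarBilin Q₂ := by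
    apply LinearMap.BilinForm.ext_basis (Pi.basisFun K ι)
    intro i j
    simpa using h2 i j
  have hp : ∀ x y, QuadraticMap.polar Q₁ x y = QuadraticMap.polar Q₂ x y := by
    intro x y
    exact congrArg (fun B : LinearMap.BilinForm K (ι → K) => B x y) hB
  have key : ∀ (s : Finset ι) (v : ι → K), Q₁ (∑ i ∈ s, v i • (Pi.single i 1 : ι → K)) =
      Q₂ (∑ i ∈ s, v i • (Pi.single i 1 : ι → K)) := by
    intro s v
    induction s using Finset.induction_on with
    | empty => simp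
    | insert a s ha ih =>
      rw [Finset.sum_insert ha, QuadraticMap.map_add ⇑Q₁, QuadraticMap.map_add ⇑Q₂, ih, hp,
        QuadraticMap.map_smul, QuadraticMap.map_smul, h1]
  ext v
  have hv : v = ∑ i, v i • (Pi.single i 1 : ι → K) := by
    funext j
    simp [Finset.sum_apply, Pi.single_apply]
  rw [hv]
  exact key _ _

/-- two quadratic forms agreeing on the rational vectors are equal. -/
theorem quad_ext_rat {F₀ : Type*} [Field F₀] (i₀ : F₀ →+* F) (Q₁ Q₂ : QuadraticForm F (ι → F))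
    (h : ∀ w : ι → F₀, Q₁ (fun i => i₀ (w i)) = Q₂ (fun i => i₀ (w i))) : Q₁ = Q₂ := by
  have hs : ∀ j, (Pi.single j 1 : ι → F) = fun i => i₀ ((Pi.single j 1 : ι → F₀) i) := by
    intro j
    funext i
    by_cases hi : i = j
    · subst hi; simp
    · simp [Pi.single_eq_of_ne hi]
  have ha : ∀ j l, (Pi.single j 1 + Pi.single l 1 : ι → F) =
      fun i => i₀ ((Pi.single j 1 + Pi.single l 1 : ι → F₀) i) := by
    intro j l
    rw [hs j, hs l]
    funext i
    simp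
  apply quad_ext
  · intro i
    rw [hs, h]
  · intro i j
    unfold QuadraticMap.polar
    rw [ha, h, hs i, h, hs j, h]

end Cfsg.Agent.Lib.Helper43.PO
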