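import Cfsg.Agent.Lib.Helper43.PO.Gen

set_option autoImplicit false
set_option linter.unusedSectionVars false

/-!
Lang-type statements for similarity groups of quadratic forms: rational forms attached to
semisimilarities of norm one.
-/

namespace Cfsg.Agent.Lib.Helper43.PO

open Matrix QuadraticMap Cfsg.Agent.Lib.Helper13.OOut Cfsg.Agent.Lib.Helper43.PA
  Cfsg.Agent.Lib.Helper44

universe u

variable {F : Type u} [Field F] {ι : Type} [Fintype ι] [DecidableEq ι]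

/-- `σ`-invariance of a form. -/
def Inv (Q : (ι → F) → F) (σ : F ≃+* F) : Prop := ∀ v : ι → F, Q (fun i => σ (v i)) = σ (Q v)

lemma mult_pow {Q : (ι → F) → F} {x : SG F ι} {c : Fˣ}
    (hc : ∀ v, Q (act x v) = c * x.right (Q v)) (j : ℕ) :
    ∀ v, Q (act (x ^ j) v) = (nU x.right c j : Fˣ) * (x.right ^ j) (Q v) := by
  induction j with
  | zero => intro v; simp [nU_zero]
  | succ j ih =>
    intro v
    rw [pow_succ', act_mul, hc, ih, map_mul, nU_succ, Units.val_mul, uM_coe, pow_succ', mul_assoc]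
    rfl

/-- `Q'` is a rational form attached to the semisimilarity `(g, σ)`. -/
structure RatForm (Q : QuadraticForm F (ι → F)) (σ : F ≃+* F) (g : GL ι F)
    (Q' : QuadraticForm F (ι → F)) : Prop where
  inv : Inv Q' σ
  ex : ∃ (h₀ : GL ι F) (ν : Fˣ), g = h₀ * (fieldGL σ h₀)⁻¹ ∧ ∀ v, Q' v = ν * Q (h₀.1 *ᵥ v)

/-- similarity over the fixed field. -/
def SimRat (σ : F ≃+* F) (Q₁ Q₂ : QuadraticForm F (ι → F)) : Prop :=
  ∃ (k : GL ι F) (l : Fˣ), fieldGL σ k = k ∧ ∀ v, Q₁ (k.1 *ᵥ v) = l * Q₂ v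

lemma ratForm_one {Q : QuadraticForm F (ι → F)} {σ : F ≃+* F} (h : Inv Q σ) : RatForm Q σ 1 Q :=
  ⟨h, 1, 1, by simp, fun v => by simp⟩

theorem exists_ratForm [Finite F] (Q : QuadraticForm F (ι → F)) (hex : ∃ v, Q v ≠ 0)
    (σ : F ≃+* F) (g : GL ι F) (hg : pr g σ ∈ Gam ⇑Q) (hN : nrmG σ g (orderOf σ) = 1) :
    ∃ Q', RatForm Q σ g Q' := by
  have hfin : Finite (F ≃+* F) := Finite.of_injective (fun e => (e : F → F)) DFunLike.coe_injective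
  obtain ⟨c, hc⟩ := mem_Gam.1 hg
  have hnc : nU σ c (orderOf σ) = 1 := by
    obtain ⟨v, hv⟩ := hex
    have h1 := mult_pow hc (orderOf σ) v
    rw [pr_pow, hN, pr_right, pow_orderOf_eq_one, pr_one, act_one] at h1
    apply Units.ext
    have h2 : (1 : F ≃+* F) (Q v) = Q v := rfl
    rw [h2] at h1
    exact (mul_right_cancel₀ hv (by rw [Units.val_one, one_mul]; exact h1)).symm
  obtain ⟨h₀, hh₀⟩ := hilbert90_G σ g _ rfl (orderOf_pos σ) hN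
  obtain ⟨w, hw⟩ := hilbert90_units σ c _ rfl (orderOf_pos σ) hnc
  refine ⟨((w⁻¹ : Fˣ) : F) • Q.comp (Matrix.mulVecLin h₀.1), ?_, h₀, w⁻¹, hh₀, fun v => rfl⟩
  intro v
  show ((w⁻¹ : Fˣ) : F) * Q (h₀.1 *ᵥ (fun i => σ (v i))) = σ (((w⁻¹ : Fˣ) : F) * Q (h₀.1 *ᵥ v))
  have e1 : h₀ = g * fieldGL σ h₀ := by rw [hh₀]; group
  have e2 : h₀.1 *ᵥ (fun i => σ (v i)) = act (pr g σ) (h₀.1 *ᵥ v) := by
    rw [act_def, pr_left, pr_right, map_mulVec', mulVec_mulVec, ← fieldGL_coe, ← Units.val_mul, ← e1]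
  rw [e2, hc, pr_right, map_mul, ← mul_assoc]
  congr 1
  have e3 : w⁻¹ * c = uM σ w⁻¹ := by rw [hw, map_inv]; group
  exact congrArg Units.val e3

theorem conj_of_ratForm {Q Q₁ Q₂ : QuadraticForm F (ι → F)} {σ : F ≃+* F} {g g' : GL ι F}
    (h1 : RatForm Q σ g Q₁) (h2 : RatForm Q σ g' Q₂) (hs : SimRat σ Q₁ Q₂) :
    ∃ h ∈ Cfsg.Geo.quadSimilarityGroup ⇑Q, g = h * g' * (fieldGL σ h)⁻¹ := by
  obtain ⟨a, ν, ha, hQ1⟩ := h1.ex
  obtain ⟨b, μ, hb, hQ2⟩ := h2.ex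
  obtain ⟨k, l, hk, hkl⟩ := hs
  refine ⟨a * k * b⁻¹, ⟨ν⁻¹ * l * μ, fun v => ?_⟩, ?_⟩
  · have e1 := hkl ((b⁻¹ : GL ι F).1 *ᵥ v)
    rw [hQ1, hQ2, mulVec_mulVec, mulVec_mulVec, mulVec_mulVec, ← Units.val_mul, ← Units.val_mul,
      ← Units.val_mul, mul_inv_cancel, Units.val_one, one_mulVec, ← mul_assoc] at e1
    have e2 : ((ν⁻¹ * l * μ : Fˣ) : F) * Q v = ((ν⁻¹ : Fˣ) : F) * ((l : F) * μ * Q v) := by
      push_cast; ring
    rw [e2, ← e1, ← mul_assoc, ← Units.val_mul, inv_mul_cancel, Units.val_one, one_mul]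
  · rw [ha, hb, map_mul, map_mul, map_inv, hk]
    group

end Cfsg.Agent.Lib.Helper43.PO
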